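import Cfsg.Agent.ChevTori.Main

/-!
The exponent vector of a diagonal element of prime order.
-/

set_option autoImplicit false

namespace Cfsg.Agent.E7SixtyFive

open Cfsg.Lie Cfsg.Agent.ChevGroup Cfsg.Agent.ChevTori Cfsg.Agent.ChevCore Matrix

universe u

variable {D : ChevalleyDatum} (T : Model D) (hU : UGood D) {F : Type u} [Field F] [Fintype F]

include hU

theorem exists_coords_prime {t : ↥(rr (F := F) T hU).H} {r : ℕ} (hr : r.Prime) (ht : orderOf t = r) :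
    ∃ (ζ : Fˣ) (b : Fin T.tab.l → ℤ), orderOf ζ = r ∧ (∀ j, psi T hU t j = ζ ^ b j) ∧
      ∃ j, ¬ (r : ℤ) ∣ b j := by
  classical
  have hψr : ∀ j, psi T hU t j ^ r = 1 := fun j => by
    rw [← Pi.pow_apply, ← map_pow, ← ht, pow_orderOf_eq_one, map_one]; rfl
  obtain ⟨j₀, hj₀⟩ : ∃ j, psi T hU t j ≠ 1 := by
    by_contra hcon
    push Not at hcon
    have h1 : t = 1 := psi_injective T hU (by rw [map_one]; exact funext hcon)
    rw [h1, orderOf_one] at ht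
    exact hr.ne_one ht.symm
  have : Fact r.Prime := ⟨hr⟩
  set ζ := psi T hU t j₀
  have hζ : orderOf ζ = r := orderOf_eq_prime (hψr j₀) hj₀
  choose b hb using fun j => Subgroup.mem_zpowers_iff.1 (mem_zpowers_of_pow_eq_one hr hζ (hψr j))
  refine ⟨ζ, b, hζ, fun j => (hb j).symm, j₀, fun hd => hj₀ ?_⟩
  show ζ = 1
  have := hb j₀
  rw [orderOf_dvd_iff_zpow_eq_one.1 (hζ.symm ▸ hd)] at this
  exact this.symm

omit hU in
theorem mpow_zpow {ζ : Fˣ} {c : Fin T.tab.l → Fˣ} {b : Fin T.tab.l → ℤ} (hc : ∀ j, c j = ζ ^ b j)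
    (A : Matrix (Fin T.tab.l) (Fin T.tab.l) ℤ) (j : Fin T.tab.l) : mpow A c j = ζ ^ (A *ᵥ b) j := by
  simp only [mpow_apply, Matrix.mulVec, dotProduct]
  rw [ChevCore.zpow_sum']
  exact Finset.prod_congr rfl fun k _ => by rw [hc, ← _root_.zpow_mul, mul_comm]

theorem chi_coords {t : ↥(rr (F := F) T hU).H} {ζ : Fˣ} {b : Fin T.tab.l → ℤ}
    (hb : ∀ j, psi T hU t j = ζ ^ b j) (s : Fin T.tab.n) :
    chi T t.1 s = ((ζ ^ ev T b s : Fˣ) : F) := by
  rw [chi_cf T hU, ev, ChevCore.zpow_sum']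
  congr 1
  exact Finset.prod_congr rfl fun j _ => by rw [hb j, ← _root_.zpow_mul, mul_comm]

/-- The eigenvector equation of the exponent vector. -/
theorem eig_of_conj {t : ↥(rr (F := F) T hU).H} {ζ : Fˣ} {b : Fin T.tab.l → ℤ}
    (hb : ∀ j, psi T hU t j = ζ ^ b j) {q : ℕ} (v : List (Fin T.tab.l))
    (h : (rr T hU).nw v * t.1 * ((rr T hU).nw v)⁻¹ = t.1 ^ q) (j : Fin T.tab.l) :
    (orderOf ζ : ℤ) ∣ (Pg T (pw T v.reverse) *ᵥ b) j - (q : ℤ) * b j := by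
  have h1 := psi_conj T hU v t
  have h2 : (⟨(rr T hU).nw v * t.1 * ((rr T hU).nw v)⁻¹, nw_conj_mem_H _ v t.2⟩ : ↥(rr (F := F) T hU).H) =
      t ^ q := Subtype.ext h
  rw [h2, map_pow] at h1
  have h3 := congrFun h1 j
  rw [Pi.pow_apply, mpow_zpow T hb, hb j, ← zpow_natCast, ← _root_.zpow_mul] at h3
  rw [orderOf_dvd_iff_zpow_eq_one, _root_.zpow_sub, ← h3, mul_comm (q : ℤ), mul_inv_cancel]

end Cfsg.Agent.E7SixtyFive
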