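import Cfsg.Agent.ChevTori.Eigen

/-!
Commuting integer matrices of finite order in dimension seven: an element of order five and an eigenvalue
of order twelve modulo thirteen on the fixed space exclude each other.
-/

set_option autoImplicit false

namespace Cfsg.Agent.E7SixtyFive

open Polynomial Matrix Cfsg.Agent.ChevTori

variable {l : ℕ}

theorem totient_le_finrank {A : Matrix (Fin l) (Fin l) ℚ} {h : ℕ} (hh : 0 < h)
    (W : Submodule ℚ (Fin l → ℚ)) (hW : ∀ x ∈ W, A *ᵥ x ∈ W) {v : Fin l → ℚ} (hv : v ∈ W)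
    (hv0 : v ≠ 0) (hA : aeval A (cyclotomic h ℚ) *ᵥ v = 0) :
    h.totient ≤ Module.finrank ℚ W := by
  classical
  have hmem : ∀ f : ℚ[X], aeval A f *ᵥ v ∈ W := by
    intro f
    induction f using Polynomial.induction_on with
    | C a =>
      rw [aeval_C, Algebra.algebraMap_eq_smul_one, Matrix.smul_mulVec, Matrix.one_mulVec]
      exact W.smul_mem _ hv
    | add f g hf hg => rw [map_add, Matrix.add_mulVec]; exact W.add_mem hf hg
    | monomial n a ih =>
      rw [show C a * X ^ (n + 1) = X * (C a * X ^ n) by ring, map_mul, aeval_X, ← Matrix.mulVec_mulVec]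
      exact hW _ ih
  let L : Polynomial.degreeLT ℚ h.totient →ₗ[ℚ] W :=
    { toFun := fun f => ⟨(aeval A (f : ℚ[X])) *ᵥ v, hmem _⟩
      map_add' := fun f g => Subtype.ext (by simp [Matrix.add_mulVec])
      map_smul' := fun c f => Subtype.ext (by simp [Matrix.smul_mulVec]) }
  have hinj : Function.Injective L := by
    rw [← LinearMap.ker_eq_bot, LinearMap.ker_eq_bot']
    intro f hf
    by_contra hne
    have hne' : (f : ℚ[X]) ≠ 0 := fun e => hne (Subtype.ext e)
    have hdeg : (f : ℚ[X]).natDegree < h.totient :=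
      (Polynomial.natDegree_lt_iff_degree_lt hne').2 (Polynomial.mem_degreeLT.1 f.2)
    have hnd : ¬ cyclotomic h ℚ ∣ (f : ℚ[X]) := fun hd => by
      have h1 := Polynomial.natDegree_le_of_dvd hd hne'
      rw [natDegree_cyclotomic] at h1
      omega
    obtain ⟨x, y, hxy⟩ := ((cyclotomic.irreducible_rat hh).coprime_iff_not_dvd).2 hnd
    have h2 := congrArg (fun g => (aeval A g) *ᵥ v) hxy
    have hf' : aeval A (f : ℚ[X]) *ᵥ v = 0 := congrArg Subtype.val hf
    simp only [map_add, map_mul, map_one, Matrix.one_mulVec, Matrix.add_mulVec, ← Matrix.mulVec_mulVec,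
      hA, hf', Matrix.mulVec_zero, add_zero] at h2
    exact hv0 h2.symm
  have h3 := LinearMap.finrank_le_finrank_of_injective hinj
  rwa [(Polynomial.degreeLTEquiv ℚ h.totient).finrank_eq, Module.finrank_fin_fun] at h3

theorem five_ne_zero' : (5 : ZMod 13) ≠ 0 := by decide

theorem no_commuting_eigen {U E : Matrix (Fin 7) (Fin 7) ℤ} {M q : ℕ} (hU : U ^ 5 = 1) (hU1 : U ≠ 1)
    (hE : E ^ M = 1) (hM : ¬ 13 ∣ M) (hq : orderOf (q : ZMod 13) = 12)
    (hcomm : Commute E (∑ i ∈ Finset.range 5, U ^ i))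
    {b : Fin 7 → ZMod 13} (hb : b ≠ 0)
    (hUb : U.map (Int.cast : ℤ → ZMod 13) *ᵥ b = b)
    (hEb : E.map (Int.cast : ℤ → ZMod 13) *ᵥ b = (q : ZMod 13) • b) : False := by
  classical
  have : Fact (Nat.Prime 13) := ⟨by norm_num⟩
  have : Fact (Nat.Prime 5) := ⟨by norm_num⟩
  set N := ∑ i ∈ Finset.range 5, U ^ i with hN
  have hM0 : 0 < M := Nat.pos_of_ne_zero fun e => hM (e ▸ dvd_zero 13)
  set φ : Matrix (Fin 7) (Fin 7) ℤ →+* Matrix (Fin 7) (Fin 7) (ZMod 13) :=
    (Int.castRingHom (ZMod 13)).mapMatrix with hφ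
  set ψ : Matrix (Fin 7) (Fin 7) ℤ →+* Matrix (Fin 7) (Fin 7) ℚ :=
    (Int.castRingHom ℚ).mapMatrix with hψ
  have hψinj : Function.Injective ψ := Matrix.map_injective Int.cast_injective
  have hmap : ∀ (S : Type) [CommRing S] (g : ℤ[X]),
      (Int.castRingHom S).mapMatrix (aeval E g) =
        aeval ((Int.castRingHom S).mapMatrix E) (g.map (Int.castRingHom S)) := by
    intro S _ g
    rw [aeval_def, aeval_def, eval₂_map, Polynomial.hom_eval₂]
    congr 1
    exact RingHom.ext_int _ _
  -- the polynomial without the twelfth cyclotomic factor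
  have hpow : (q : ZMod 13) ^ M = 1 := by
    have h1 := aeval_mulVec_eigen hEb ((X : (ZMod 13)[X]) ^ M)
    simp only [map_pow, aeval_X, eval_pow, eval_X] at h1
    rw [show E.map (Int.cast : ℤ → ZMod 13) = φ E from rfl, ← map_pow, hE, map_one, Matrix.one_mulVec] at h1
    obtain ⟨i, hi⟩ := Function.ne_iff.1 hb
    have h2 := congrFun h1 i
    simp only [Pi.smul_apply, smul_eq_mul] at h2
    exact (mul_eq_right₀ hi).1 h2.symm
  have hdvd : 12 ∣ M := hq ▸ orderOf_dvd_of_pow_eq_one hpow
  set f : ℤ[X] := ∏ d ∈ M.divisors.erase 12, cyclotomic d ℤ with hf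
  have hfac : cyclotomic 12 ℤ * f = X ^ M - 1 := by
    rw [hf, Finset.mul_prod_erase _ (fun d => cyclotomic d ℤ) (Nat.mem_divisors.2 ⟨hdvd, hM0.ne'⟩),
      prod_cyclotomic_eq_X_pow_sub_one hM0]
  have hNb : φ N *ᵥ b = (5 : ZMod 13) • b := by
    have hi : ∀ i : ℕ, (φ U) ^ i *ᵥ b = b := by
      intro i
      induction i with
      | zero => simp
      | succ i ih =>
        rw [pow_succ, ← Matrix.mulVec_mulVec, show φ U *ᵥ b = b from hUb, ih]
    rw [hN, map_sum, Matrix.sum_mulVec]
    simp only [map_pow, hi, Finset.sum_const, Finset.card_range]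
    funext j
    simp
  by_cases hz : aeval E f * N = 0
  · have h1 := congrArg (fun A => φ A *ᵥ b) hz
    simp only [map_mul, map_zero, Matrix.zero_mulVec, ← Matrix.mulVec_mulVec, hNb, Matrix.mulVec_smul] at h1
    rw [hmap (ZMod 13) f, show (Int.castRingHom (ZMod 13)).mapMatrix E = φ E from rfl,
      aeval_mulVec_eigen (show φ E *ᵥ b = _ from hEb)] at h1
    have h3 : (f.map (Int.castRingHom (ZMod 13))).eval (q : ZMod 13) ≠ 0 := by
      rw [hf, Polynomial.map_prod, eval_prod, Finset.prod_ne_zero_iff]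
      intro d hd h0
      rw [map_cyclotomic] at h0
      obtain ⟨hne, hd'⟩ := Finset.mem_erase.1 hd
      have hdM := (Nat.mem_divisors.1 hd').1
      have : NeZero (d : ZMod 13) := ⟨fun e' => hM
        (((CharP.cast_eq_zero_iff (ZMod 13) 13 d).1 e').trans hdM)⟩
      have h4 : IsPrimitiveRoot (q : ZMod 13) d := isRoot_cyclotomic_iff.1 h0
      exact hne (h4.eq_orderOf.trans hq)
    rcases smul_eq_zero.1 h1 with h2 | h2
    · exact five_ne_zero' h2
    · exact hb ((smul_eq_zero.1 h2).resolve_left h3)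
  -- over the rationals
  set UQ := ψ U with hUQ
  set EQ := ψ E with hEQ
  set NQ := ψ N with hNQ
  have hUN : (U - 1) * N = 0 := by rw [hN, mul_geom_sum, hU, sub_self]
  have hNU : N * (U - 1) = 0 := by rw [hN, geom_sum_mul, hU, sub_self]
  set W := LinearMap.range NQ.mulVecLin
  set K := LinearMap.ker NQ.mulVecLin
  have hdim : Module.finrank ℚ W + Module.finrank ℚ K = 7 := by
    rw [NQ.mulVecLin.finrank_range_add_finrank_ker, Module.finrank_fin_fun]
  have hK : 4 ≤ Module.finrank ℚ K := by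
    obtain ⟨w, hw⟩ : ∃ w, (UQ - 1) *ᵥ w ≠ 0 := by
      by_contra hall
      push Not at hall
      refine hU1 (hψinj ?_)
      rw [map_one, ← sub_eq_zero]
      refine Matrix.toLin'.injective (LinearMap.ext fun w => ?_)
      rw [Matrix.toLin'_apply, map_zero, LinearMap.zero_apply, ← hUQ]
      exact hall w
    refine le_trans (le_of_eq (by decide +kernel : 4 = Nat.totient 5))
      (totient_le_finrank (A := UQ) (h := 5) (by norm_num) K ?_ (v := (UQ - 1) *ᵥ w) ?_ hw ?_)
    · intro x hx
      rw [LinearMap.mem_ker, Matrix.mulVecLin_apply] at hx ⊢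
      have h1 : NQ * UQ = NQ := by
        have := congrArg ψ hNU
        rw [map_mul, map_sub, map_one, map_zero, mul_sub, mul_one, sub_eq_zero] at this
        exact this
      rw [Matrix.mulVec_mulVec, h1, hx]
    · rw [LinearMap.mem_ker, Matrix.mulVecLin_apply, Matrix.mulVec_mulVec]
      have := congrArg ψ hNU
      rw [map_mul, map_sub, map_one, map_zero] at this
      rw [this, Matrix.zero_mulVec]
    · rw [cyclotomic_prime ℚ 5, map_sum, Matrix.mulVec_mulVec]
      simp only [map_pow, aeval_X]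
      rw [geom_sum_mul, ← map_pow ψ, hU, map_one, sub_self, Matrix.zero_mulVec]
  obtain ⟨w, hw⟩ : ∃ w, (ψ (aeval E f * N)) *ᵥ w ≠ 0 := by
    by_contra hall
    push Not at hall
    refine hz (hψinj ?_)
    rw [map_zero]
    refine Matrix.toLin'.injective (LinearMap.ext fun w => ?_)
    rw [Matrix.toLin'_apply, map_zero, LinearMap.zero_apply]
    exact hall w
  have hfN : aeval E f * N = N * aeval E f := by
    have h1 : ∀ g : ℤ[X], Commute (aeval E g) N := by
      intro g
      induction g using Polynomial.induction_on with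
      | C a => rw [aeval_C]; exact Algebra.commutes a N
      | add g g' hg hg' => rw [map_add]; exact hg.add_left hg'
      | monomial n a ih =>
        rw [show C a * X ^ (n + 1) = X * (C a * X ^ n) by ring, map_mul, aeval_X]
        exact hcomm.mul_left ih
    exact h1 f
  have hW : 4 ≤ Module.finrank ℚ W := by
    refine le_trans (le_of_eq (by decide +kernel : 4 = Nat.totient 12))
      (totient_le_finrank (A := EQ) (h := 12) (by norm_num) W ?_ (v := ψ (aeval E f * N) *ᵥ w) ?_ hw ?_)
    · rintro _ ⟨x, rfl⟩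
      refine ⟨EQ *ᵥ x, ?_⟩
      simp only [Matrix.mulVecLin_apply, Matrix.mulVec_mulVec, hNQ, hEQ, ← map_mul, hcomm.eq]
    · refine ⟨ψ (aeval E f) *ᵥ w, ?_⟩
      rw [Matrix.mulVecLin_apply, Matrix.mulVec_mulVec, hfN, map_mul]
    · rw [hEQ, hψ, ← map_cyclotomic 12 (Int.castRingHom ℚ), ← hmap ℚ, Matrix.mulVec_mulVec,
        ← map_mul, ← mul_assoc, ← map_mul (aeval E), hfac, map_sub, map_pow, aeval_X, map_one, hE,
        sub_self, zero_mul, map_zero, Matrix.zero_mulVec]
  omega

end Cfsg.Agent.E7SixtyFive
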