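import Cfsg.Agent.ChevTori.Parabolic
import Cfsg.Agent.E7SixtyFive.Lin
import Cfsg.Agent.ChevGroup.Mat.E7
import Cfsg.Agent.Lib.ChevCore.SepAll
import Cfsg.Agent.WeylGroup.E7

/-!
The stabiliser of an eigenvector of order thirteen in the Weyl group of type E7 has order prime to five.
-/

set_option autoImplicit false

namespace Cfsg.Agent.E7SixtyFive

open Cfsg.Lie Cfsg.Agent.ChevGroup Cfsg.Agent.ChevTori Matrix

abbrev mdl : Model chevE7 := TypeE7.model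

theorem hG7 : ChevCore.Good chevE7 := ChevCore.uGoodE7.toCommGood.toGood

theorem fix7 : ∀ x ∈ weyl mdl, (∀ s, mdl.S.pos s → mdl.S.pos (x s)) → x = 1 := fun _ hx h =>
  fix_of_pos mdl ChevCore.uGoodE7 ℚ hx h

theorem weyl_dvd : Nat.card (weyl mdl) ∣ 2 ^ 10 * 3 ^ 4 * 5 * 7 :=
  ((show (2903040 : ℕ) = 2 ^ 10 * 3 ^ 4 * 5 * 7 by norm_num) ▸ WeylGroup.card_e7 ▸
    ChevTori.weyl_card_dvd mdl (Mx := CoxeterMatrix.E₇) (by decide +kernel))

theorem thirteen_not_dvd : ¬ 13 ∣ Nat.card (weyl mdl) := fun h => by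
  have := h.trans weyl_dvd
  norm_num at this

theorem twenty_five_not_dvd : ¬ 25 ∣ Nat.card (weyl mdl) := fun h => by
  have := h.trans weyl_dvd
  norm_num at this

theorem orderOf_dvd_weyl {γ : Equiv.Perm (Fin mdl.tab.n)} (hγ : γ ∈ weyl mdl) :
    orderOf γ ∣ Nat.card (weyl mdl) := by
  rw [← Subgroup.orderOf_mk γ hγ]
  exact orderOf_dvd_natCard _

theorem thirteen_not_dvd_order {γ : Equiv.Perm (Fin mdl.tab.n)} (hγ : γ ∈ weyl mdl) :
    ¬ 13 ∣ orderOf γ := fun h => thirteen_not_dvd (h.trans (orderOf_dvd_weyl hγ))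

theorem Pg_order {γ : Equiv.Perm (Fin mdl.tab.n)} (hγ : γ ∈ weyl mdl) :
    Pg mdl γ ^ orderOf γ = 1 := by
  rw [← Pg_pow hG7 hγ, pow_orderOf_eq_one, Pg_one hG7]

theorem ev_congr_of_eig {γ : Equiv.Perm (Fin mdl.tab.n)} (hγ : γ ∈ weyl mdl)
    {b : Fin mdl.tab.l → ℤ} {r q : ℕ}
    (heig : ∀ j, (r : ℤ) ∣ (Pg mdl γ *ᵥ b) j - (q : ℤ) * b j) (s : Fin mdl.tab.n) :
    (r : ℤ) ∣ ev mdl b (γ s) - (q : ℤ) * ev mdl b s := by
  rw [ev_weyl' hG7 hγ, ev, Finset.mul_sum, dotProduct, ← Finset.sum_sub_distrib]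
  refine Finset.dvd_sum fun j _ => ?_
  rw [show cf mdl s j * (Pg mdl γ *ᵥ b) j - (q : ℤ) * (cf mdl s j * b j) =
    cf mdl s j * ((Pg mdl γ *ᵥ b) j - (q : ℤ) * b j) by ring]
  exact dvd_mul_of_dvd_right (heig j) _

theorem eig_cast {A : Matrix (Fin mdl.tab.l) (Fin mdl.tab.l) ℤ} {b : Fin mdl.tab.l → ℤ} {r q : ℕ}
    (heig : ∀ j, (r : ℤ) ∣ (A *ᵥ b) j - (q : ℤ) * b j) :
    A.map (Int.cast : ℤ → ZMod r) *ᵥ (fun j => (b j : ZMod r)) =
      (q : ZMod r) • fun j => (b j : ZMod r) := by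
  funext j
  have h1 := (ZMod.intCast_zmod_eq_zero_iff_dvd _ r).2 (heig j)
  rw [Int.cast_sub, sub_eq_zero, Int.cast_mul, Int.cast_natCast] at h1
  rw [Pi.smul_apply, smul_eq_mul, ← h1]
  simp [Matrix.mulVec, dotProduct]

theorem cast_eig {A : Matrix (Fin mdl.tab.l) (Fin mdl.tab.l) ℤ} {b : Fin mdl.tab.l → ℤ} {r q : ℕ}
    (h : A.map (Int.cast : ℤ → ZMod r) *ᵥ (fun j => (b j : ZMod r)) =
      (q : ZMod r) • fun j => (b j : ZMod r)) : ∀ j, (r : ℤ) ∣ (A *ᵥ b) j - (q : ℤ) * b j := by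
  intro j
  rw [← ZMod.intCast_zmod_eq_zero_iff_dvd, Int.cast_sub, sub_eq_zero, Int.cast_mul, Int.cast_natCast]
  have h1 := congrFun h j
  rw [Pi.smul_apply, smul_eq_mul] at h1
  rw [← h1]
  simp [Matrix.mulVec, dotProduct]

/-- No element of order five fixes a vector modulo thirteen that is an eigenvector of order twelve of
another element. -/
theorem no_five_in_stab {δ : Equiv.Perm (Fin mdl.tab.n)} (hδ : δ ∈ weyl mdl)
    {b : Fin mdl.tab.l → ℤ} (hb : ∃ j, ¬ (13 : ℤ) ∣ b j) {q : ℕ}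
    (hq : orderOf (q : ZMod 13) = 12)
    (heig : ∀ j, ((13 : ℕ) : ℤ) ∣ (Pg mdl δ *ᵥ b) j - (q : ℤ) * b j)
    {γ : Equiv.Perm (Fin mdl.tab.n)} (hγ : γ ∈ stab mdl b 13) (h5 : orderOf γ = 5) : False := by
  classical
  have : Fact (Nat.Prime 13) := ⟨by norm_num⟩
  have : Fact (Nat.Prime 5) := ⟨by norm_num⟩
  set K := stab mdl b 13
  have hev := ev_congr_of_eig hδ heig
  have hconj : δ * γ * δ⁻¹ ∈ K := by
    refine ⟨mul_mem (mul_mem hδ hγ.1) (inv_mem hδ), fun s => ?_⟩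
    obtain ⟨u, rfl⟩ := δ.surjective s
    simp only [Equiv.Perm.mul_apply, Equiv.Perm.coe_inv, Equiv.symm_apply_apply]
    have h1 := dvd_sub (hev (γ u)) (hev u)
    have h2 := dvd_mul_of_dvd_right (hγ.2 u) (q : ℤ)
    have h3 := dvd_add h1 h2
    rw [show ev mdl b (δ (γ u)) - ev mdl b (δ u) = ev mdl b (δ (γ u)) - (q : ℤ) * ev mdl b (γ u) -
      (ev mdl b (δ u) - (q : ℤ) * ev mdl b u) + (q : ℤ) * (ev mdl b (γ u) - ev mdl b u) by ring]
    exact h3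
  -- both generate Sylow subgroups
  have hsyl : ∀ x : K, orderOf x = 5 → ∃ P : Sylow 5 K, (P : Subgroup K) = Subgroup.zpowers x := by
    intro x hx
    have hp : IsPGroup 5 (Subgroup.zpowers x) :=
      IsPGroup.of_card (n := 1) (by rw [Nat.card_zpowers, hx, pow_one])
    obtain ⟨P, hP⟩ := hp.exists_le_sylow
    refine ⟨P, (Subgroup.eq_of_le_of_card_ge hP ?_).symm⟩
    rw [Nat.card_zpowers, hx]
    obtain ⟨n, hn⟩ := IsPGroup.iff_card.1 P.isPGroup'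
    rw [hn]
    rcases n with _ | _ | n
    · simp
    · simp
    · exfalso
      refine twenty_five_not_dvd ((dvd_trans ?_ (Subgroup.card_subgroup_dvd_card (P : Subgroup K))).trans
        (Subgroup.card_dvd_of_le (stab_le (T := mdl) b 13)))
      rw [hn]
      exact Dvd.intro (5 ^ n) (by ring)
  obtain ⟨P, hP⟩ := hsyl ⟨γ, hγ⟩ (by rw [Subgroup.orderOf_mk]; exact h5)
  obtain ⟨P', hP'⟩ := hsyl ⟨δ * γ * δ⁻¹, hconj⟩ (by
    rw [Subgroup.orderOf_mk, ← h5]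
    exact orderOf_injective (MulAut.conj δ).toMonoidHom (MulAut.conj δ).injective γ)
  obtain ⟨k, hk⟩ := MulAction.exists_smul_eq K P' P
  have hmem : k * ⟨δ * γ * δ⁻¹, hconj⟩ * k⁻¹ ∈ (P : Subgroup K) := by
    rw [← hk]
    exact ⟨⟨δ * γ * δ⁻¹, hconj⟩, hP' ▸ Subgroup.mem_zpowers _, rfl⟩
  rw [hP, Subgroup.mem_zpowers_iff] at hmem
  obtain ⟨m, hm⟩ := hmem
  set e := k.1 * δ with he
  have heW : e ∈ weyl mdl := mul_mem k.2.1 hδ
  have hce : e * γ * e⁻¹ = γ ^ m := by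
    have h1 := congrArg Subtype.val hm
    simp only [SubgroupClass.coe_zpow, Subgroup.coe_mul, Subgroup.coe_inv] at h1
    rw [h1, he]
    group
  -- the sum over the subgroup
  set U := Pg mdl γ with hUdef
  have hUpow : ∀ i : ℕ, U ^ i = Pg mdl (γ ^ i) := fun i => (Pg_pow hG7 hγ.1 i).symm
  set e5 := finEquivZPowers (isOfFinOrder_of_finite γ)
  have hsum : ∀ g : Equiv.Perm (Fin mdl.tab.n) → Matrix (Fin mdl.tab.l) (Fin mdl.tab.l) ℤ,
      ∑ i ∈ Finset.range 5, g (γ ^ i) = ∑ z : Subgroup.zpowers γ, g z.1 := by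
    intro g
    rw [← Equiv.sum_comp e5 fun z : Subgroup.zpowers γ => g z.1, ← h5,
      ← Fin.sum_univ_eq_sum_range (fun i => g (γ ^ i))]
    exact Finset.sum_congr rfl fun i _ => rfl
  have hmemz : ∀ z ∈ Subgroup.zpowers γ, e * z * e⁻¹ ∈ Subgroup.zpowers γ := by
    intro z hz
    obtain ⟨j, rfl⟩ := Subgroup.mem_zpowers_iff.1 hz
    rw [← conj_zpow, hce, ← _root_.zpow_mul]
    exact Subgroup.zpow_mem_zpowers γ _
  have hcomm : Commute (Pg mdl e) (∑ i ∈ Finset.range 5, U ^ i) := by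
    simp only [hUpow]
    rw [hsum (Pg mdl)]
    show _ * _ = _ * _
    rw [Finset.mul_sum, Finset.sum_mul]
    let f : Subgroup.zpowers γ → Subgroup.zpowers γ := fun z => ⟨e * z.1 * e⁻¹, hmemz z.1 z.2⟩
    have hf : Function.Injective f := fun z z' h =>
      Subtype.ext (mul_left_cancel (mul_right_cancel (congrArg Subtype.val h)))
    refine (Fintype.sum_equiv (Equiv.ofBijective f hf.bijective_of_finite) _ _ fun z => ?_).symm
    show Pg mdl z.1 * Pg mdl e = Pg mdl e * Pg mdl (e * z.1 * e⁻¹)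
    have hzW : z.1 ∈ weyl mdl := Subgroup.zpowers_le.2 hγ.1 z.2
    rw [← Pg_mul hG7 heW, ← Pg_mul hG7 (mul_mem (mul_mem heW hzW) (inv_mem heW))]
    congr 1
    group
  have hfixb : ∀ {x : Equiv.Perm (Fin mdl.tab.n)}, x ∈ K →
      (Pg mdl x).map (Int.cast : ℤ → ZMod 13) *ᵥ (fun j => (b j : ZMod 13)) =
        fun j => (b j : ZMod 13) := by
    intro x hx
    have := eig_cast (r := 13) (q := 1) (A := Pg mdl x) (b := b) fun j => by
      have h1 := hx.2 (mdl.S.simple j)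
      rw [ev_weyl' hG7 hx.1, ev_simple hG7,
        show cf mdl (mdl.S.simple j) ⬝ᵥ (Pg mdl x *ᵥ b) = ev mdl (Pg mdl x *ᵥ b) (mdl.S.simple j) from rfl,
        ev_simple hG7] at h1
      simpa using h1
    simpa using this
  have hEb : (Pg mdl e).map (Int.cast : ℤ → ZMod 13) *ᵥ (fun j => (b j : ZMod 13)) =
      (q : ZMod 13) • fun j => (b j : ZMod 13) := by
    rw [he, Pg_mul hG7 k.2.1,
      show (Pg mdl δ * Pg mdl k.1).map (Int.cast : ℤ → ZMod 13) =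
        (Pg mdl δ).map (Int.cast : ℤ → ZMod 13) * (Pg mdl k.1).map (Int.cast : ℤ → ZMod 13) from
        Matrix.map_mul (f := Int.castRingHom (ZMod 13)),
      ← Matrix.mulVec_mulVec, hfixb k.2, eig_cast heig]
  refine no_commuting_eigen (U := U) (E := Pg mdl e) (q := q) ?_ ?_ (Pg_order heW)
    (thirteen_not_dvd_order heW) hq hcomm (b := fun j => (b j : ZMod 13)) ?_ (hfixb hγ) ?_
  · rw [hUdef, ← h5]
    exact Pg_order hγ.1
  · intro h
    have h : U = (1 : Matrix (Fin mdl.tab.l) (Fin mdl.tab.l) ℤ) := h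
    have h1 : γ = 1 := fix7 γ hγ.1 fun s hs => by
      have h2 : ev mdl (1 : Fin mdl.tab.l → ℤ) (γ s) = ev mdl 1 s := by
        rw [ev_weyl' hG7 hγ.1, ← hUdef, h, Matrix.one_mulVec]
        rfl
      rw [pos_iff_ev hG7, h2]
      exact (pos_iff_ev hG7 s).1 hs
    rw [h1, orderOf_one] at h5
    norm_num at h5
  · obtain ⟨j, hj⟩ := hb
    exact fun h => hj ((ZMod.intCast_zmod_eq_zero_iff_dvd _ 13).1 (congrFun h j))
  · exact hEb

end Cfsg.Agent.E7SixtyFive
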