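import Cfsg.Agent.ChevTori.Main
import Cfsg.Agent.E7SixtyFive.Coords
import Cfsg.Agent.E7SixtyFive.Stab
import Cfsg.Agent.ChevGroup.Mat.OrderE7
import Cfsg.Agent.Lib.ChevCore.TorusCard

/-!
An element of order five commuting with a twisted element of order thirteen of the torus of type E7 is
conjugate into the torus inside the centraliser of that element.
-/

set_option autoImplicit false

namespace Cfsg.Agent.E7SixtyFive

open Cfsg.Lie Cfsg.Agent.ChevGroup Cfsg.Agent.ChevTori Cfsg.Agent.ChevCore Matrix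

theorem ht_bound : ∀ s : Fin mdl.tab.n, (ht chevE7 s.val).natAbs ≤ 17 := by decide +kernel

theorem neg_w0 : ∀ s : Fin mdl.tab.n, pw mdl TypeE7.w0 s = mdl.S.neg s := by decide +kernel

theorem iterate_conj {G M : Type*} [Group G] [CommGroup M] {n : ℕ} (HH : Subgroup G)
    (ψ : HH →* (Fin n → M)) (z : G) (P : Set G) (hP : ∀ g ∈ P, g ∈ HH)
    (hn : ∀ g ∈ P, z * g * z⁻¹ ∈ P) (A : Matrix (Fin n) (Fin n) ℤ)
    (hA : ∀ a a' : HH, a.1 ∈ P → a'.1 = z * a.1 * z⁻¹ → ψ a' = mpow A (ψ a))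
    (h : HH) (hh : h.1 ∈ P) (i : ℕ) :
    ∃ a : HH, a.1 = z ^ i * h.1 * (z ^ i)⁻¹ ∧ a.1 ∈ P ∧ ψ a = mpow (A ^ i) (ψ h) := by
  induction i with
  | zero => exact ⟨h, by simp, hh, by rw [pow_zero, mpow_one]⟩
  | succ i ih =>
    obtain ⟨a, ha, haP, hψ⟩ := ih
    refine ⟨⟨z * a.1 * z⁻¹, hP _ (hn _ haP)⟩, ?_, hn _ haP, ?_⟩
    · show z * a.1 * z⁻¹ = _
      rw [ha, pow_succ']; group
    · rw [hA a _ haP rfl, hψ, pow_succ', mpow_mul]

theorem conj_mem_mk {G : Type*} [Group G] {C : Subgroup G} {P : Subgroup C} {z : C}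
    (hn : ∀ a ∈ P, z * a * z⁻¹ ∈ P) {g : G} (hg : ∃ h : g ∈ C, (⟨g, h⟩ : C) ∈ P) :
    ∃ h : z.1 * g * z.1⁻¹ ∈ C, (⟨z.1 * g * z.1⁻¹, h⟩ : C) ∈ P :=
  ⟨mul_mem (mul_mem z.2 hg.1) (inv_mem z.2), hn _ hg.2⟩

theorem conj_to_sylow {G : Type*} [Group G] [Finite G] {C : Subgroup G} {p : ℕ} [Fact p.Prime]
    (Q : Sylow p C) {y : G} (hyC : y ∈ C) (hy : y ^ p = 1) :
    ∃ f : G, f ∈ C ∧ ∃ h : f * y * f⁻¹ ∈ C, (⟨f * y * f⁻¹, h⟩ : C) ∈ (Q : Subgroup C) := by
  have hyP : IsPGroup p (Subgroup.zpowers (⟨y, hyC⟩ : C)) := by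
    intro a
    obtain ⟨i, hi⟩ := Subgroup.mem_zpowers_iff.1 a.2
    refine ⟨1, Subtype.ext ?_⟩
    rw [SubmonoidClass.coe_pow, ← hi, ← zpow_natCast, zpow_comm, zpow_natCast, pow_one,
      show (⟨y, hyC⟩ : C) ^ p = 1 from Subtype.ext hy, _root_.one_zpow]
    rfl
  obtain ⟨S, hS⟩ := hyP.exists_le_sylow
  obtain ⟨f, hf⟩ := MulAction.exists_smul_eq C S Q
  refine ⟨f.1, f.2, mul_mem (mul_mem f.2 hyC) (inv_mem f.2), ?_⟩
  rw [← hf]
  exact ⟨⟨y, hyC⟩, hS (Subgroup.mem_zpowers _), rfl⟩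

theorem exists_conj_mem_of_index {G : Type*} [Group G] [Finite G] {H : Subgroup G} {p : ℕ} [Fact p.Prime]
    {x : G} (hN : ∃ N, Nat.card G = Nat.card H * N ∧ ¬ p ∣ N) (hx : x ^ p = 1) :
    ∃ g : G, g * x * g⁻¹ ∈ H := by
  obtain ⟨N, hN, hpN⟩ := hN
  obtain ⟨P₀⟩ := (inferInstance : Nonempty (Sylow p H))
  obtain ⟨Q, hQle⟩ := (P₀.2.map H.subtype).exists_le_sylow
  have hQH : (Q : Subgroup G) ≤ H := by
    have hcard : Nat.card (P₀.1.map H.subtype) = Nat.card Q := by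
      rw [Subgroup.card_map_of_injective Subtype.coe_injective, Sylow.card_eq_multiplicity,
        Sylow.card_eq_multiplicity, hN,
        Nat.factorization_mul Nat.card_pos.ne' (show N ≠ 0 by rintro rfl; exact hpN (dvd_zero p)),
        Finsupp.add_apply, Nat.factorization_eq_zero_of_not_dvd hpN, add_zero]
    rw [← Subgroup.eq_of_le_of_card_ge hQle hcard.ge]
    rintro _ ⟨y, -, rfl⟩
    exact y.2
  obtain ⟨g, -, h, hg⟩ := conj_to_sylow (C := ⊤) (p := p)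
    (Q.subtype le_top) (y := x) (Subgroup.mem_top x) hx
  exact ⟨g, hQH hg⟩

variable {F : Type} [Field F] [Fintype F] (hQ : Fintype.card F = 2 ^ 60)

local notation "R" => rr (F := F) mdl ChevCore.uGoodE7

include hQ

theorem card_diag : Nat.card ↥(chevE7.diagonalSubgroup F) = (Fintype.card F - 1) ^ 7 := by
  have h := ChevCore.card_diagonalE7 (F := F)
  rw [show Nat.gcd 2 (Fintype.card F - 1) = 1 from by rw [hQ]; decide +kernel, one_mul] at h
  exact h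

theorem psi_surjective : Function.Surjective (psi (F := F) mdl ChevCore.uGoodE7) := by
  classical
  refine ((psi_injective mdl ChevCore.uGoodE7).bijective_of_nat_card_le ?_).2
  rw [← mdl.card_H_eq (relsOfCommGood ChevCore.uGoodE7.toCommGood F), card_diag hQ, Nat.card_pi,
    Finset.prod_const, Finset.card_univ, Fintype.card_fin, Nat.card_eq_fintype_card,
    Fintype.card_units]
  exact le_refl _

theorem exists_unit_orderOf {m : ℕ} (hm : m ∣ 2 ^ 60 - 1) : ∃ ζ : Fˣ, orderOf ζ = m := by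
  classical
  obtain ⟨g, hg⟩ := IsCyclic.exists_generator (α := Fˣ)
  have hgo : orderOf g = 2 ^ 60 - 1 := by
    rw [orderOf_eq_card_of_forall_mem_zpowers hg, Nat.card_eq_fintype_card, Fintype.card_units, hQ]
  refine ⟨g ^ ((2 ^ 60 - 1) / m), ?_⟩
  rw [← hgo] at hm ⊢
  exact orderOf_pow_orderOf_div (orderOf_pos g).ne' hm

/-- A diagonal element of order dividing twenty-five whose centraliser is the torus. -/
theorem exists_separating :
    ∃ h : ↥(R).H, h ^ 25 = 1 ∧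
      (∀ w, (R).nw w * h.1 * ((R).nw w)⁻¹ = h.1 → ∀ s, mdl.S.actw w s = s) ∧
      (∀ g, g * h.1 = h.1 * g → g ∈ (R).H) ∧
      ∀ γ ∈ weyl mdl, mpow (Pg mdl γ) (psi mdl ChevCore.uGoodE7 h) = psi mdl ChevCore.uGoodE7 h → γ = 1 := by
  obtain ⟨ζ, hζ⟩ := exists_unit_orderOf hQ (m := 25) (by decide +kernel)
  obtain ⟨h, hh⟩ := psi_surjective hQ fun _ => ζ
  have hb : ∀ j, psi mdl ChevCore.uGoodE7 h j = ζ ^ (1 : Fin mdl.tab.l → ℤ) j := fun j => by
    rw [hh, Pi.one_apply, _root_.zpow_one]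
  have hbound : ∀ s, |ev mdl (1 : Fin mdl.tab.l → ℤ) s| ≤ 17 := fun s => by
    rw [ev_one_eq_ht hG7 s, Int.abs_eq_natAbs]
    exact_mod_cast ht_bound s
  have hstab : ∀ γ ∈ weyl mdl,
      mpow (Pg mdl γ) (psi mdl ChevCore.uGoodE7 h) = psi mdl ChevCore.uGoodE7 h → γ = 1 := by
    intro γ hγ e
    have hsimp : ∀ j, ev mdl (1 : Fin mdl.tab.l → ℤ) (γ (mdl.S.simple j)) = 1 := by
      intro j
      have h1 := congrFun e j
      rw [mpow_zpow mdl hb, hb j, ← mul_inv_eq_one, ← _root_.zpow_sub, ← orderOf_dvd_iff_zpow_eq_one,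
        hζ, Pi.one_apply] at h1
      rw [show (Pg mdl γ *ᵥ (1 : Fin mdl.tab.l → ℤ)) j = ev mdl 1 (γ (mdl.S.simple j)) by
        rw [ev_weyl' hG7 hγ, show cf mdl (mdl.S.simple j) ⬝ᵥ (Pg mdl γ *ᵥ (1 : Fin mdl.tab.l → ℤ)) =
          ev mdl (Pg mdl γ *ᵥ (1 : Fin mdl.tab.l → ℤ)) (mdl.S.simple j) from rfl, ev_simple hG7]] at h1
      have h2 := abs_le.1 (hbound (γ (mdl.S.simple j)))
      omega
    refine fix7 γ hγ fun s hs => ?_
    have h2 : ev mdl (1 : Fin mdl.tab.l → ℤ) (γ s) = ev mdl 1 s := by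
      rw [ev_weyl hG7 hγ, ev]
      exact Finset.sum_congr rfl fun j _ => by rw [hsimp j, Pi.one_apply]
    rw [pos_iff_ev hG7, h2]
    exact (pos_iff_ev hG7 s).1 hs
  have hstabw : ∀ w, (R).nw w * h.1 * ((R).nw w)⁻¹ = h.1 → ∀ s, mdl.S.actw w s = s := by
    intro w hw s
    have h1 := psi_conj mdl ChevCore.uGoodE7 w h
    have h2 : (⟨(R).nw w * h.1 * ((R).nw w)⁻¹, nw_conj_mem_H _ w h.2⟩ : ↥(R).H) = h := Subtype.ext hw
    rw [h2] at h1
    have h4 := hstab _ (prod_mem_weyl mdl _) h1.symm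
    have h5 : mdl.S.actw w.reverse s = s := by rw [← pw_apply, pw, h4]; rfl
    have h6 := mdl.S.actw_reverse w s
    rwa [h5] at h6
  refine ⟨h, ?_, hstabw, fun g e => ?_, hstab⟩
  · refine psi_injective mdl ChevCore.uGoodE7 ?_
    rw [map_pow, hh, map_one]
    funext j
    rw [Pi.pow_apply, ← hζ, pow_orderOf_eq_one]
    rfl
  · refine mem_H_of_commute mdl ChevCore.uGoodE7 TypeE7.longest_ok TypeE7.pos_span TypeE7.wit_ok h.2
      (fun s hs => ?_) hstabw e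
    rw [chi_coords mdl ChevCore.uGoodE7 hb, Units.val_eq_one, ← orderOf_dvd_iff_zpow_eq_one, hζ] at hs
    have h2 := abs_le.1 (hbound s)
    have h3 : ev mdl (1 : Fin mdl.tab.l → ℤ) s ≠ 0 := by
      rw [ev_one_eq_ht hG7 s]; exact hG7.ht_ne_zero (mdl.lt s)
    omega

set_option maxHeartbeats 1000000 in
/-- An element of order five commuting with the twisted element of order thirteen is conjugate into the
torus inside its centraliser. -/
theorem conj_five_mem {t₀ : ↥(chevE7.group F)} (ht₀ : t₀ ∈ (R).H) (ho : orderOf t₀ = 13)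
    {v₀ : List (Fin mdl.tab.l)} (hv₀ : (R).nw v₀ * t₀ * ((R).nw v₀)⁻¹ = t₀ ^ 2)
    {y : ↥(chevE7.group F)} (hy : y * t₀ = t₀ * y) (hy5 : y ^ 5 = 1) :
    ∃ f, f * t₀ = t₀ * f ∧ f * y * f⁻¹ ∈ (R).H := by
  classical
  have : Fact (Nat.Prime 5) := ⟨by norm_num⟩
  obtain ⟨h, h25, hstabw, hcent, hstab⟩ := exists_separating hQ
  obtain ⟨ζ, b, hζ, hb, hb0⟩ := exists_coords_prime mdl ChevCore.uGoodE7
    (t := ⟨t₀, ht₀⟩) (r := 13) (by norm_num) (by rw [Subgroup.orderOf_mk]; exact ho)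
  have heig0 := fun j => hζ ▸ eig_of_conj mdl ChevCore.uGoodE7 hb v₀ hv₀ j
  set C := Subgroup.centralizer ({t₀} : Set ↥(chevE7.group F)) with hC
  have hmemC : ∀ {z}, z ∈ C ↔ z * t₀ = t₀ * z := fun {z} => Subgroup.mem_centralizer_singleton_iff
  let P₀ : Subgroup C :=
    { carrier := {z | z.1 ∈ (R).H ∧ ∃ k : ℕ, z ^ 5 ^ k = 1}
      one_mem' := ⟨one_mem _, 0, one_pow _⟩
      mul_mem' := by
        rintro a c ⟨ha, k, hk⟩ ⟨hc, m, hm⟩
        refine ⟨mul_mem ha hc, k + m, ?_⟩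
        have hac : Commute a c := Subtype.ext (H_commute mdl ChevCore.uGoodE7 ha hc)
        rw [hac.mul_pow, pow_add, pow_mul, hk, one_pow, one_mul, mul_comm, pow_mul, hm, one_pow]
      inv_mem' := by
        rintro a ⟨ha, k, hk⟩
        exact ⟨inv_mem ha, k, by rw [inv_pow, hk, inv_one]⟩ }
  have hP₀ : IsPGroup 5 P₀ := fun z => ⟨z.2.2.choose, Subtype.ext (by
    rw [SubmonoidClass.coe_pow]; exact z.2.2.choose_spec)⟩
  obtain ⟨Q, hQle⟩ := hP₀.exists_le_sylow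
  have hQH : ∀ z ∈ (Q : Subgroup C), z.1 ∈ (R).H := by
    by_cases heq : P₀ = (Q : Subgroup C)
    · intro z hz
      exact (heq.symm ▸ hz : z ∈ P₀).1
    exfalso
    have : Group.IsNilpotent (Q : Subgroup C) := Q.isPGroup'.isNilpotent
    have hlt : P₀.subgroupOf (Q : Subgroup C) < ⊤ := lt_top_iff_ne_top.2 fun e =>
      heq (le_antisymm hQle (Subgroup.subgroupOf_eq_top.1 e))
    obtain ⟨z, hzn, hz0⟩ := SetLike.exists_of_lt (Group.normalizerCondition_of_isNilpotent _ hlt)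
    rw [Subgroup.mem_subgroupOf] at hz0
    have hnorm : ∀ a ∈ P₀, z.1 * a * z.1⁻¹ ∈ P₀ := fun a ha =>
      (Subgroup.mem_normalizer_iff.1 hzn ⟨a, hQle ha⟩).1 ha
    obtain ⟨k, hk⟩ := Q.isPGroup' z
    have hz5 : z.1.1 ^ 5 ^ k = 1 := congrArg (fun a : (Q : Subgroup C) => a.1.1) hk
    have hzH : z.1.1 ∉ (R).H := fun e => hz0 ⟨e, k, congrArg Subtype.val hk⟩
    obtain ⟨b₁, hb₁, w, -, b₂, hb₂, hbr⟩ := (R).exists_bruhat (g := z.1.1)
      ((mdl.group_top (relsOfCommGood ChevCore.uGoodE7.toCommGood F) TypeE7.wit_ok).symm ▸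
        Subgroup.mem_top z.1.1)
    have key : ∀ {t t'}, t ∈ (R).H → t' ∈ (R).H → z.1.1 * t * z.1.1⁻¹ = t' →
        (R).nw w * t * ((R).nw w)⁻¹ = t' := fun {t t'} ht ht' e =>
      conj_key mdl ChevCore.uGoodE7 TypeE7.longest_ok TypeE7.pos_span w ht ht' hb₁ hb₂ (by
        rw [← hbr, ← e]; group)
    set γ := pw mdl w.reverse with hγdef
    have hγ : γ ∈ weyl mdl := prod_mem_weyl mdl _
    have hfix : γ ∈ stab mdl b 13 := by
      have h1 := key ht₀ ht₀ (by rw [hmemC.1 z.1.2, mul_inv_cancel_right])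
      have h2 := fun j => hζ ▸ eig_of_conj mdl ChevCore.uGoodE7 hb (q := 1) w (by rw [pow_one]; exact h1) j
      refine ⟨hγ, fun s => ?_⟩
      have h3 := ev_congr_of_eig hγ (r := 13) (q := 1) h2 s
      simpa using h3
    set hC₀ : ↥(chevE7.group F) := h.1
    have hhC : hC₀ ∈ C := hmemC.2 (H_commute mdl ChevCore.uGoodE7 h.2 ht₀)
    have hhP : (⟨hC₀, hhC⟩ : C) ∈ P₀ := ⟨h.2, 2, Subtype.ext (by
      rw [SubmonoidClass.coe_pow, show (5 : ℕ) ^ 2 = 25 by norm_num]; exact congrArg Subtype.val h25)⟩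
    have hiter := iterate_conj (R).H (psi mdl ChevCore.uGoodE7) z.1.1
      {g | ∃ hg : g ∈ C, (⟨g, hg⟩ : C) ∈ P₀} (fun g hg => hg.2.1)
      (fun g hg => conj_mem_mk hnorm hg) (Pg mdl γ)
      (fun a a' _ e => by
        rw [hγdef, ← psi_conj mdl ChevCore.uGoodE7 w a]
        congr 1
        exact Subtype.ext (key a.2 a'.2 e.symm).symm)
      h ⟨hhC, hhP⟩
    have hγk : γ ^ 5 ^ k = 1 := by
      obtain ⟨a, ha, -, hpsi⟩ := hiter (5 ^ k)
      refine hstab _ (pow_mem hγ _) ?_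
      have : a = h := Subtype.ext (by rw [ha, hz5, inv_one, one_mul, mul_one])
      rw [this] at hpsi
      rw [Pg_pow hG7 hγ]
      exact hpsi.symm
    have hγ1 : γ ≠ 1 := by
      intro e
      obtain ⟨a, ha, -, hpsi⟩ := hiter 1
      rw [pow_one, e, Pg_one hG7, mpow_one] at hpsi
      have h1 : a = h := psi_injective mdl ChevCore.uGoodE7 hpsi
      rw [h1, pow_one] at ha
      refine hzH (hcent _ ?_)
      show z.1.1 * hC₀ = hC₀ * z.1.1
      conv_rhs => rw [show hC₀ = z.1.1 * hC₀ * z.1.1⁻¹ from ha]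
      rw [inv_mul_cancel_right]
    have hdvd : orderOf γ ∣ 5 := by
      obtain ⟨i, hi, he⟩ := (Nat.dvd_prime_pow (by norm_num)).1 (orderOf_dvd_of_pow_eq_one hγk)
      rcases i with _ | _ | i
      · rw [he]; norm_num
      · rw [he]; norm_num
      · exact absurd ((he ▸ orderOf_dvd_weyl hγ : 5 ^ (i + 1 + 1) ∣ _)) fun e =>
          twenty_five_not_dvd ((Dvd.intro (5 ^ i) (by ring)).trans e)
    refine no_five_in_stab (prod_mem_weyl mdl v₀.reverse) hb0 (q := 2) ?_ heig0 hfix ?_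
    · rw [orderOf_eq_iff (by norm_num)]
      decide
    · rcases (Nat.dvd_prime (by norm_num)).1 hdvd with e | e
      · exact absurd (orderOf_eq_one_iff.1 e) hγ1
      · exact e
  obtain ⟨f, hfC, hfy, hfQ⟩ := conj_to_sylow Q (hmemC.2 hy) hy5
  exact ⟨f, hmemC.1 hfC, hQH _ hfQ⟩

end Cfsg.Agent.E7SixtyFive
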