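import Cfsg.Agent.KnownSimple58.SpElements
import Cfsg.Agent.KnownSimple58.LinearSpectrum
import Cfsg.Agent.KnownSimple58.UnitaryElements
import Cfsg.Agent.Spectra36.PG.Spectrum

/-!
Elements of order sixty-five in small classical groups over the field with eight elements.
-/

set_option autoImplicit false

namespace Cfsg.Agent.E7SixtyFive

open Cfsg.Agent

theorem psl_two {E : Type*} [Field E] [Fintype E] (h : Fintype.card E = 64) :
    ∃ x : Matrix.ProjectiveSpecialLinearGroup (Fin 2) E, orderOf x = 65 := by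
  classical
  obtain ⟨s, hs⟩ := KS58.exists_psl_singer (F := E) (n := 2) (by norm_num)
  exact KS58.exists_orderOf_eq_of_dvd s (dvd_trans (dvd_of_eq (by
    simp only [KS58.mN, KS58.zN, h]; decide)) hs)

theorem psl_four {E : Type*} [Field E] [Fintype E] (h : Fintype.card E = 8) :
    ∃ x : Matrix.ProjectiveSpecialLinearGroup (Fin 4) E, orderOf x = 65 := by
  classical
  obtain ⟨s, hs⟩ := KS58.exists_psl_singer (F := E) (n := 4) (by norm_num)
  exact KS58.exists_orderOf_eq_of_dvd s (dvd_trans (Dvd.intro 9 (by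
    simp only [KS58.mN, KS58.zN, h]; decide)) hs)

theorem psu_four {E : Type*} [Field E] [Fintype E] (h : Fintype.card E = 64) :
    ∃ x : Cfsg.PSU 4 E 8, orderOf x = 65 := by
  classical
  have hK : Fintype.card E = 8 ^ 2 := by rw [h]; norm_num
  letI : StarRing E := Forms59.starRingOfCard hK
  obtain ⟨s, hs⟩ := KS58.SUEl.exists_psu_singer hK (fun x => rfl) (show 2 ≤ 4 by norm_num)
  exact KS58.exists_orderOf_eq_of_dvd s (dvd_trans (by decide) hs)

theorem psp_two {E : Type*} [Field E] [Fintype E] (h : Fintype.card E = 8) :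
    ∃ g : Symplectic.Sp 2 E, orderOf g = 65 := by
  classical
  obtain ⟨-, z, hz⟩ := KS58.SpEl.exists_sp_torus (F := E) (a := 2) (by norm_num)
  exact ⟨z, by rw [hz, h]; norm_num⟩

theorem psp_quot {E : Type*} [Field E] [Fintype E] {n : ℕ}
    (hg : ∃ g : Symplectic.Sp n E, orderOf g = 65) : ∃ x : Cfsg.PSp n E, orderOf x = 65 := by
  classical
  exact (Spectra36.PG.exists_odd_quot_iff (fun z hz => Spectra36.PG.sp_center hz) (by decide)).2 hg

theorem psp_four {E : Type*} [Field E] [Fintype E] (h : Fintype.card E = 8) :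
    ∃ x : Cfsg.PSp 2 E, orderOf x = 65 :=
  psp_quot (psp_two h)

theorem psp_six {E : Type*} [Field E] [Fintype E] (h : Fintype.card E = 8) :
    ∃ x : Cfsg.PSp 3 E, orderOf x = 65 := by
  classical
  obtain ⟨z, hz⟩ := psp_two h
  let f : Symplectic.Sp 2 E →* Symplectic.Sp (2 + 1) E :=
    KS58.SpEl.blockSum.comp (MonoidHom.inl _ _)
  refine psp_quot ⟨f z, ?_⟩
  rw [← hz]
  exact orderOf_injective f (KS58.SpEl.blockSum_injective.comp fun a b e => (Prod.ext_iff.1 e).1) z

end Cfsg.Agent.E7SixtyFive
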