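import Cfsg.Agent.E7SixtyFive.Conj
import Cfsg.Agent.ChevTori.Arith
import Cfsg.Agent.ChevTori.EigenDvd
import Mathlib.FieldTheory.Finite.GaloisField

/-!
The Chevalley group of type E7 over the field with two elements has no element of order sixty-five.
-/

set_option autoImplicit false

namespace Cfsg.Agent.E7SixtyFive

open Cfsg.Lie Cfsg.Agent.ChevGroup Cfsg.Agent.ChevTori Cfsg.Agent.ChevFixed Polynomial Matrix
open Cfsg.Agent.ChevCore hiding X

theorem cast_two_sixty : ((2 ^ 60 : ℕ) : ZMod 13) = 1 := by decide +kernel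

theorem order_thirteen : orderOf ((32 : ℕ) : ZMod 13) = 12 := by
  rw [orderOf_eq_iff (by norm_num)]; decide

theorem order_thirteen_neg : orderOf ((7 : ℕ) : ZMod 13) = 12 := by
  rw [orderOf_eq_iff (by norm_num)]; decide

theorem order_five_neg : orderOf ((3 : ℕ) : ZMod 5) = 4 := by
  rw [orderOf_eq_iff (by norm_num)]; decide

theorem neg_thirteen : -((32 : ℕ) : ZMod 13) = ((7 : ℕ) : ZMod 13) := by decide

theorem neg_five : -((32 : ℕ) : ZMod 5) = ((3 : ℕ) : ZMod 5) := by decide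

theorem order_five : orderOf ((32 : ℕ) : ZMod 5) = 4 := by
  rw [orderOf_eq_iff (by norm_num)]; decide

theorem index_prime_thirteen {F : Type} [Field F] [Fintype F] (hQ : Fintype.card F = 2 ^ 60) :
    ∃ N, Nat.card ↥(chevE7.group F) = Nat.card ↥(chevE7.diagonalSubgroup F) * N ∧ ¬ 13 ∣ N := by
  have : Fact (Nat.Prime 13) := ⟨by norm_num⟩
  have hC : ChevCore.CommGood chevE7 := ChevCore.uGoodE7.toCommGood
  have hg : Nat.gcd 2 (2 ^ 60 - 1) = 1 := by decide +kernel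
  refine ChevTori.index_of_degrees (r := 13) (Q := 2 ^ 60) (a := 63) (l := 7)
    cast_two_sixty (Nat.one_le_pow _ _ (by norm_num)) [2, 6, 8, 10, 12, 14, 18] rfl ?_
    (by rw [card_diag hQ, hQ]) ?_
  · intro d hd
    simp only [List.mem_cons, List.not_mem_nil, or_false] at hd
    rcases hd with rfl | rfl | rfl | rfl | rfl | rfl | rfl <;> norm_num
  · have h := TypeE7.card_group (torusFacts_of_good hC.toGood) (relsOfCommGood hC F) hQ
    rw [hg, one_mul] at h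
    rw [h]
    simp [List.prod_cons, mul_assoc]

theorem five_mul_pow {γ : Equiv.Perm (Fin mdl.tab.n)} (hγ : γ ∈ weyl mdl) :
    ¬ 5 ∣ orderOf (γ ^ 5) := by
  rw [orderOf_pow]
  intro h
  by_cases h5 : 5 ∣ orderOf γ
  · rw [Nat.gcd_eq_right h5] at h
    exact twenty_five_not_dvd (((Nat.dvd_div_iff_mul_dvd h5).1 h).trans (orderOf_dvd_weyl hγ))
  · rw [((Nat.Prime.coprime_iff_not_dvd (by norm_num)).2 h5).symm.gcd_eq_one, Nat.div_one] at h
    exact h5 h

theorem eig_pow {A : Matrix (Fin mdl.tab.l) (Fin mdl.tab.l) ℤ} {R : Type*} [CommRing R]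
    {b : Fin mdl.tab.l → R} {q : R} (h : A.map (Int.cast : ℤ → R) *ᵥ b = q • b) (m : ℕ) :
    (A ^ m).map (Int.cast : ℤ → R) *ᵥ b = q ^ m • b := by
  have h1 := aeval_mulVec_eigen h ((X : R[X]) ^ m)
  simp only [map_pow, aeval_X, eval_pow, eval_X] at h1
  rw [show (A ^ m).map (Int.cast : ℤ → R) = A.map (Int.cast : ℤ → R) ^ m from
    map_pow (Int.castRingHom R).mapMatrix A m, h1]

/-- The Cartan matrix. -/
def C7 : Matrix (Fin 7) (Fin 7) ℤ :=
  !![2, 0, -1, 0, 0, 0, 0; 0, 2, 0, -1, 0, 0, 0; -1, 0, 2, -1, 0, 0, 0; 0, -1, -1, 2, -1, 0, 0;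
    0, 0, 0, -1, 2, -1, 0; 0, 0, 0, 0, -1, 2, -1; 0, 0, 0, 0, 0, -1, 2]

theorem cartan_eq :
    (Matrix.of fun i j : Fin 7 => chevE7.cartan j.val (chevE7.simple i.val)) = C7 := by decide +kernel

theorem cartT_eq (i j : Fin 7) : cartT mdl i j = C7 i j :=
  (congrArg (chevE7.cartan j.val) (mdl.simple_eq i)).trans (congrFun (congrFun cartan_eq i) j)

theorem det_C6 : ∀ i : Fin 7, ¬ (C7.submatrix i.succAbove i.succAbove).det ∣ 2 := by decide +kernel

theorem det_one_sub {n : ℕ} (A : Matrix (Fin n) (Fin n) ℤ) : (1 - A).det = A.charpoly.eval 1 := by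
  rw [Matrix.eval_charpoly, Matrix.scalar_apply, Matrix.diagonal_one]

theorem charpoly_unit_col {n : ℕ} (A : Matrix (Fin (n + 1)) (Fin (n + 1)) ℤ) (k : Fin (n + 1))
    (hcol : ∀ j, A j k = if j = k then 1 else 0) :
    A.charpoly = (X - 1) * (A.submatrix k.succAbove k.succAbove).charpoly := by
  rw [Matrix.charpoly, Matrix.det_succ_column _ k, Finset.sum_eq_single k]
  · rw [charmatrix_apply_eq, hcol, if_pos rfl, map_one, Even.neg_one_pow ⟨k.val, rfl⟩, one_mul]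
    congr 1
    rw [Matrix.charpoly]
    congr 1
    ext a b
    simp only [Matrix.submatrix_apply, charmatrix_apply, Matrix.diagonal_apply,
      Fin.succAbove_right_injective.eq_iff]
  · intro j _ hj
    rw [charmatrix_apply_ne _ _ _ hj, hcol, if_neg hj, map_zero, neg_zero, mul_zero, zero_mul]
  · simp

set_option maxRecDepth 4000 in
theorem Pg_w0 : Pg mdl (pw mdl TypeE7.w0) = -1 := by
  refine Matrix.ext fun j k => ?_
  rw [Pg, Matrix.of_apply, neg_w0 (mdl.S.simple j), cf_neg hG7, cf_simple hG7, Matrix.neg_apply,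
    Matrix.one_apply]
  by_cases h : j = k
  · rw [if_pos h, if_pos h.symm]
  · rw [if_neg h, if_neg (Ne.symm h)]

theorem cyclotomic_twelve : cyclotomic 12 ℤ = X ^ 4 - X ^ 2 + 1 := by
  have h := cyclotomic_expand_eq_cyclotomic (p := 2) (n := 6) Nat.prime_two (by norm_num) ℤ
  rw [cyclotomic_six] at h
  rw [show (12 : ℕ) = 6 * 2 from rfl, ← h]
  simp [← pow_mul]

theorem cyclotomic_four : cyclotomic 4 ℤ = X ^ 2 + 1 := by
  have : Fact (Nat.Prime 2) := ⟨Nat.prime_two⟩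
  rw [show (4 : ℕ) = 2 ^ (1 + 1) from rfl, cyclotomic_prime_pow_eq_geom_sum Nat.prime_two]
  simp [Finset.sum_range_succ]
  ring

/-- No element of the Weyl group of type E7 has eigenvalues of orders twelve and four and a fixed vector. -/
theorem no_fixed {γ : Equiv.Perm (Fin mdl.tab.n)} (hγ : γ ∈ weyl mdl)
    (hc : (Pg mdl γ).charpoly = cyclotomic 12 ℤ * cyclotomic 4 ℤ * (X - 1)) : False := by
  set A : Matrix (Fin 7) (Fin 7) ℤ := Pg mdl γ with hA
  change A.charpoly = _ at hc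
  have hev : (1 - A).det = 0 := by rw [det_one_sub, hc]; simp
  obtain ⟨v, hv, hv0⟩ := Matrix.exists_mulVec_eq_zero_iff.2 hev
  rw [Matrix.sub_mulVec, Matrix.one_mulVec, sub_eq_zero] at hv0
  obtain ⟨j₀, hj₀⟩ := Function.ne_iff.1 hv
  obtain ⟨u, hu, (i : Fin 7), -, hγ1⟩ := descend hG7 fix7 (S := Set.univ) (weylS_univ mdl ▸ hγ) (a := v)
    hv0.symm ⟨j₀, trivial, hj₀⟩
  set γ1 := u⁻¹ * γ * u
  set A1 : Matrix (Fin 7) (Fin 7) ℤ := Pg mdl γ1 with hA1
  have hcol : ∀ j, A1 j i = if j = i then 1 else 0 := fun j =>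
    (Pg_col hG7 hγ1 j (fun h => h.2 rfl)).trans (by congr 1)
  set B := A1.submatrix (Fin.succAbove (n := 6) i) (Fin.succAbove (n := 6) i) with hB
  have hX1 : (X - 1 : ℤ[X]) ≠ 0 := by rw [← map_one C]; exact X_sub_C_ne_zero 1
  have hcB : B.charpoly = cyclotomic 12 ℤ * cyclotomic 4 ℤ := by
    refine mul_left_cancel₀ hX1 ?_
    rw [← charpoly_unit_col A1 i hcol, show A1.charpoly = A.charpoly from charpoly_Pg_conj hG7 hγ (weylS_le mdl _ hu), hc]
    ring
  have hevB : (1 - B).det = 2 := by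
    rw [det_one_sub, hcB, cyclotomic_twelve, cyclotomic_four]
    simp
  refine det_C6 i ?_
  rw [← hevB]
  have h := det_cartT_dvd hG7 hγ1 (Fin.succAbove (n := 6) i) Fin.succAbove_right_injective
    (fun x hx => Fin.exists_succAbove_eq fun e => hx.2 e)
  have e : Matrix.submatrix (cartT mdl) (Fin.succAbove (n := 6) i) (Fin.succAbove (n := 6) i) =
      C7.submatrix (Fin.succAbove (n := 6) i) (Fin.succAbove (n := 6) i) :=
    Matrix.ext fun x y => cartT_eq _ _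
  exact (congrArg Matrix.det e).symm.dvd.trans h

theorem det_eq_neg_one {δ : Equiv.Perm (Fin mdl.tab.n)} (hδ : δ ∈ weyl mdl)
    (d12 : cyclotomic 12 ℤ ∣ (Pg mdl δ).charpoly) (d4 : cyclotomic 4 ℤ ∣ (Pg mdl δ).charpoly) :
    (Pg mdl δ).det = -1 := by
  set A : Matrix (Fin 7) (Fin 7) ℤ := Pg mdl δ with hA
  change cyclotomic 12 ℤ ∣ A.charpoly at d12
  change cyclotomic 4 ℤ ∣ A.charpoly at d4
  show A.det = -1
  have hAM : A ^ orderOf δ = 1 := Pg_order hδ
  obtain ⟨g, hg⟩ : cyclotomic 12 ℤ * cyclotomic 4 ℤ ∣ A.charpoly := by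
    obtain ⟨k, hk⟩ := d4
    rw [hk, mul_comm (cyclotomic 12 ℤ)]
    refine mul_dvd_mul_left _ ?_
    rw [hk] at d12
    refine ((cyclotomic.irreducible (by norm_num : 0 < 12)).prime.dvd_or_dvd d12).resolve_left ?_
    intro h
    have := Polynomial.natDegree_le_of_dvd h (cyclotomic_ne_zero 4 ℤ)
    rw [natDegree_cyclotomic, natDegree_cyclotomic, show Nat.totient 12 = 4 from rfl,
      show Nat.totient 4 = 2 from rfl] at this
    omega
  have hgm : g.Monic :=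
    ((cyclotomic.monic 12 ℤ).mul (cyclotomic.monic 4 ℤ)).of_mul_monic_left (hg ▸ A.charpoly_monic)
  have hdeg : g.natDegree = 1 := by
    have h := congrArg natDegree hg
    rw [((cyclotomic.monic 12 ℤ).mul (cyclotomic.monic 4 ℤ)).natDegree_mul hgm,
      (cyclotomic.monic 12 ℤ).natDegree_mul (cyclotomic.monic 4 ℤ), natDegree_cyclotomic,
      natDegree_cyclotomic, A.charpoly_natDegree_eq_dim, Fintype.card_fin,
      show Nat.totient 12 = 4 from rfl, show Nat.totient 4 = 2 from rfl] at h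
    omega
  obtain ⟨c, hgc⟩ : ∃ c, g = X + C c := ⟨g.coeff 0, by
    conv_lhs => rw [hgm.as_sum, hdeg]
    simp⟩
  subst hgc
  have hdet : A.det = -c := by
    have h := A.det_eq_sign_charpoly_coeff
    rw [hg, coeff_zero_eq_eval_zero, cyclotomic_twelve, cyclotomic_four] at h
    simpa using h
  have hu : IsUnit A.det := by
    have h := congrArg Matrix.det hAM
    rw [Matrix.det_pow, Matrix.det_one] at h
    exact IsUnit.of_pow_eq_one h (orderOf_pos δ).ne'
  rcases Int.isUnit_iff.1 hu with h | h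
  · exfalso
    refine no_fixed hδ ?_
    show A.charpoly = _
    rw [hg, show c = -1 by omega]
    simp [sub_eq_add_neg]
  · exact h

theorem no_twist {γ : Equiv.Perm (Fin mdl.tab.n)} (hγ : γ ∈ weyl mdl)
    {b₁ b₂ : Fin mdl.tab.l → ℤ} (hb₁ : ∃ j, ¬ (13 : ℤ) ∣ b₁ j) (hb₂ : ∃ j, ¬ (5 : ℤ) ∣ b₂ j)
    (h₁ : ∀ j, ((13 : ℕ) : ℤ) ∣ (Pg mdl γ *ᵥ b₁) j - ((2 : ℕ) : ℤ) * b₁ j)
    (h₂ : ∀ j, ((5 : ℕ) : ℤ) ∣ (Pg mdl γ *ᵥ b₂) j - ((2 : ℕ) : ℤ) * b₂ j) : False := by
  have : Fact (Nat.Prime 13) := ⟨by norm_num⟩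
  have : Fact (Nat.Prime 5) := ⟨by norm_num⟩
  set δ := γ ^ 5
  have hδ : δ ∈ weyl mdl := pow_mem hγ 5
  set δ' := δ * pw mdl TypeE7.w0
  have hδ' : δ' ∈ weyl mdl := mul_mem hδ (prod_mem_weyl mdl _)
  have hPg' : Pg mdl δ' = -Pg mdl δ := by rw [Pg_mul hG7 hδ, Pg_w0, neg_one_mul]
  have hne13 : (fun j => (b₁ j : ZMod 13)) ≠ 0 := by
    obtain ⟨j, hj⟩ := hb₁
    exact fun h => hj ((ZMod.intCast_zmod_eq_zero_iff_dvd _ 13).1 (congrFun h j))
  have hne5 : (fun j => (b₂ j : ZMod 5)) ≠ 0 := by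
    obtain ⟨j, hj⟩ := hb₂
    exact fun h => hj ((ZMod.intCast_zmod_eq_zero_iff_dvd _ 5).1 (congrFun h j))
  have e13 := eig_pow (eig_cast h₁) 5
  rw [← Pg_pow hG7 hγ, ← Nat.cast_pow] at e13
  have e5 := eig_pow (eig_cast h₂) 5
  rw [← Pg_pow hG7 hγ, ← Nat.cast_pow] at e5
  have hord' : ¬ 5 ∣ orderOf δ' := by
    intro h
    have h5 : ¬ 5 ∣ orderOf δ * 2 := fun e => (Nat.Prime.dvd_mul (by norm_num)).1 e |>.elim
      (five_mul_pow hγ) (by norm_num)
    refine h5 (h.trans (orderOf_dvd_of_pow_eq_one (fix7 _ (pow_mem hδ' _) fun s hs => ?_)))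
    have h2 : ev mdl (1 : Fin mdl.tab.l → ℤ) ((δ' ^ (orderOf δ * 2)) s) = ev mdl 1 s := by
      rw [ev_weyl' hG7 (pow_mem hδ' _), Pg_pow hG7 hδ', hPg', (even_two.mul_left _).neg_pow, pow_mul,
        Pg_order hδ, one_pow, Matrix.one_mulVec]
      rfl
    rw [pos_iff_ev hG7, h2]
    exact (pos_iff_ev hG7 s).1 hs
  have eneg : ∀ {p : ℕ} {v : Fin mdl.tab.l → ZMod p} {q : ZMod p},
      (Pg mdl δ).map (Int.cast : ℤ → ZMod p) *ᵥ v = q • v →
      (Pg mdl δ').map (Int.cast : ℤ → ZMod p) *ᵥ v = (-q) • v := by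
    intro p v q h
    rw [hPg', show (-Pg mdl δ).map (Int.cast : ℤ → ZMod p) = -(Pg mdl δ).map (Int.cast : ℤ → ZMod p) from
      map_neg (Int.castRingHom (ZMod p)).mapMatrix _, Matrix.neg_mulVec, h, neg_smul]
  have h1 := det_eq_neg_one hδ
    (cyclotomic_dvd_charpoly (Pg_order hδ) (thirteen_not_dvd_order hδ) order_thirteen hne13 e13)
    (cyclotomic_dvd_charpoly (Pg_order hδ) (five_mul_pow hγ) order_five hne5 e5)
  have h2 := det_eq_neg_one hδ'
    (cyclotomic_dvd_charpoly (Pg_order hδ') (thirteen_not_dvd_order hδ') order_thirteen_neg hne13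
      (neg_thirteen ▸ eneg e13))
    (cyclotomic_dvd_charpoly (Pg_order hδ') hord' order_five_neg hne5 (neg_five ▸ eneg e5))
  rw [hPg', Matrix.det_neg, Fintype.card_fin, h1, show mdl.tab.l = 7 from rfl] at h2
  norm_num at h2

theorem conj_mul_conj {G : Type*} [Group G] (f g x : G) :
    f * g * x * (f * g)⁻¹ = f * (g * x * g⁻¹) * f⁻¹ := by group

/-- There is no element of order sixty-five. -/
theorem not_orderOf_sixty_five (g₀ : ↥(chevE7.group (ZMod 2))) : orderOf g₀ ≠ 65 := by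
  intro hg₀
  classical
  have : Fact (Nat.Prime 13) := ⟨by norm_num⟩
  have : Fact (Nat.Prime 5) := ⟨by norm_num⟩
  have : Fact (Nat.Prime 2) := ⟨Nat.prime_two⟩
  let F := GaloisField 2 60
  letI : Fintype F := Fintype.ofFinite F
  have hQ : Fintype.card F = 2 ^ 60 := by
    rw [← Nat.card_eq_fintype_card]; exact GaloisField.card 2 60 (by norm_num)
  set R := rr (F := F) mdl ChevCore.uGoodE7
  set ι := mapGroup (D := chevE7) (algebraMap (ZMod 2) F)
  set τ := mapGroup (D := chevE7) (frobenius F 2)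
  have hτι : ∀ y, τ (ι y) = ι y := fun y => Model.mat_inj (Matrix.ext fun a b => by
    exact RingHom.congr_fun (RingHom.ext_zmod ((frobenius F 2).comp (algebraMap (ZMod 2) F))
      (algebraMap (ZMod 2) F)) _)
  have hτx : ∀ a b, τ (R.x a b) = R.x a (frobenius F 2 b) := mapGroup_x mdl _ _
  have hτH : ∀ {t}, t ∈ R.H → τ t = t ^ 2 := by
    intro t ht
    have h1 : (⟨τ t, map_H hτx ht⟩ : R.H) = ⟨t, ht⟩ ^ 2 := by
      refine psi_injective mdl ChevCore.uGoodE7 ?_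
      rw [map_pow]
      funext j
      refine Units.ext ?_
      rw [Pi.pow_apply, Units.val_pow_eq_pow_val, val_psi, val_psi]
      exact frobenius_def 2 _
    exact congrArg Subtype.val h1
  -- the element of order thirteen into the torus
  set a := ι g₀ with ha
  have hao : orderOf a = 65 := by rw [ha, orderOf_injective ι (mapGroup_injective _), hg₀]
  set x := a ^ 5 with hx
  set y := a ^ 13 with hy
  have hxo : orderOf x = 13 := by rw [hx, orderOf_pow, hao]; decide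
  have hyo : orderOf y = 5 := by rw [hy, orderOf_pow, hao]; decide
  obtain ⟨N, hN, hrN⟩ := index_prime_thirteen hQ
  obtain ⟨g, hgH⟩ := exists_conj_mem_of_index (H := R.H) (p := 13) (x := x) ⟨N, by
    rw [hN, mdl.card_H_eq (relsOfCommGood ChevCore.uGoodE7.toCommGood F)], hrN⟩
    (by rw [← hxo]; exact pow_orderOf_eq_one x)
  set t₀ := g * x * g⁻¹ with ht₀
  have ht₀o : orderOf t₀ = 13 := by
    rw [← hxo]; exact orderOf_injective (MulAut.conj g).toMonoidHom (MulAut.conj g).injective x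
  set y₁ := g * y * g⁻¹ with hy₁
  have hcomm : y₁ * t₀ = t₀ * y₁ := by
    rw [hy₁, ht₀, hx, hy, show g * a ^ 13 * g⁻¹ * (g * a ^ 5 * g⁻¹) = g * (a ^ 13 * a ^ 5) * g⁻¹ by group,
      pow_mul_comm]
    group
  have twist : ∀ (c : ↥(chevE7.group F)) (m : ℕ), c * a ^ m * c⁻¹ ∈ R.H →
      (τ c * c⁻¹) * (c * a ^ m * c⁻¹) * (τ c * c⁻¹)⁻¹ = (c * a ^ m * c⁻¹) ^ 2 := by
    intro c m hm
    rw [← hτH hm, map_mul, map_mul, map_inv, map_pow, ha, hτι]
    group
  have bru : ∀ c : ↥(chevE7.group F), ∃ v, ∀ {t t'}, t ∈ R.H → t' ∈ R.H → c * t * c⁻¹ = t' →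
      R.nw v * t * (R.nw v)⁻¹ = t' := by
    intro c
    obtain ⟨b₁, hb₁, v, -, b₂, hb₂, hnd⟩ := R.exists_bruhat (g := c)
      ((mdl.group_top (relsOfCommGood ChevCore.uGoodE7.toCommGood F) TypeE7.wit_ok).symm ▸ Subgroup.mem_top c)
    exact ⟨v, fun {t t'} ht ht' e =>
      conj_key mdl ChevCore.uGoodE7 TypeE7.longest_ok TypeE7.pos_span v ht ht' hb₁ hb₂ (by
        rw [← hnd, ← e]; group)⟩
  obtain ⟨v₀, hv₀⟩ := bru (τ g * g⁻¹)
  obtain ⟨f, hf, hfy⟩ := conj_five_mem hQ hgH ht₀o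
    (hv₀ hgH (pow_mem hgH 2) (twist g 5 hgH)) hcomm (by
      rw [hy₁, conj_pow, ← hyo, pow_orderOf_eq_one, mul_one, mul_inv_cancel])
  set c := f * g
  have hcx : c * x * c⁻¹ = t₀ := by rw [conj_mul_conj, ← ht₀, hf, mul_inv_cancel_right]
  have hcy : c * y * c⁻¹ = f * y₁ * f⁻¹ := conj_mul_conj f g y
  have hxH : c * a ^ 5 * c⁻¹ ∈ R.H := Eq.mpr (congrArg (· ∈ R.H) hcx) hgH
  have hyH : c * a ^ 13 * c⁻¹ ∈ R.H := Eq.mpr (congrArg (· ∈ R.H) hcy) hfy
  obtain ⟨v, hv⟩ := bru (τ c * c⁻¹)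
  have hxv := hv hxH (pow_mem hxH 2) (twist c 5 hxH)
  have hyv := hv hyH (pow_mem hyH 2) (twist c 13 hyH)
  obtain ⟨ζ₁, b₁, hζ₁, hb₁, hn₁⟩ := exists_coords_prime mdl ChevCore.uGoodE7
    (t := ⟨_, hxH⟩) (r := 13) (by norm_num) (by
      rw [Subgroup.orderOf_mk, hcx]; exact ht₀o)
  obtain ⟨ζ₂, b₂, hζ₂, hb₂, hn₂⟩ := exists_coords_prime mdl ChevCore.uGoodE7
    (t := ⟨_, hyH⟩) (r := 5) (by norm_num) (by
      rw [Subgroup.orderOf_mk, ← hyo]
      exact orderOf_injective (MulAut.conj c).toMonoidHom (MulAut.conj c).injective y)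
  exact no_twist (prod_mem_weyl mdl v.reverse) hn₁ hn₂
    (fun j => hζ₁ ▸ eig_of_conj mdl ChevCore.uGoodE7 hb₁ v hxv j)
    (fun j => hζ₂ ▸ eig_of_conj mdl ChevCore.uGoodE7 hb₂ v hyv j)

end Cfsg.Agent.E7SixtyFive
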